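import Cfsg.Agent.H134.Bert
import Cfsg.Agent.H777.Ore.Base

/-!
# Ore's theorem for the alternating groups: every element of `A_n`, `n ≥ 5`, is a commutator
-/

set_option autoImplicit false

namespace Cfsg.Agent.H134.Ore

open Equiv Equiv.Perm H134.Bert

variable {α : Type*} [DecidableEq α] [Fintype α]

/-- `g` is a commutator of even permutations. -/
def CE (g : Perm α) : Prop :=
  ∃ a b : Perm α, sign a = 1 ∧ sign b = 1 ∧ g = a * b * a⁻¹ * b⁻¹

theorem CE.conj {g : Perm α} (h : CE g) (w : Perm α) : CE (w * g * w⁻¹) := by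
  obtain ⟨a, b, ha, hb, rfl⟩ := h
  refine ⟨w * a * w⁻¹, w * b * w⁻¹, ?_, ?_, by group⟩
  · rw [map_mul, map_mul, ha, mul_one, ← map_mul, mul_inv_cancel, map_one]
  · rw [map_mul, map_mul, hb, mul_one, ← map_mul, mul_inv_cancel, map_one]

theorem CE.of_cycleType {g g' : Perm α} (h : CE g) (e : g.cycleType = g'.cycleType) : CE g' := by
  obtain ⟨w, rfl⟩ := isConj_iff.1 (isConj_iff_cycleType_eq.2 e)
  exact h.conj w

/-- Products of two `l`-cycles with `l` odd and two points left over. -/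
theorem CE.of_two {g : Perm α} {l : ℕ} (h : Two g l) (hl : Odd l)
    (hn : l + 2 ≤ Fintype.card α) : CE g := by
  obtain ⟨u, v, X, Y, hu, hv, e, hX, hY⟩ := h
  by_cases hl1 : l = 1
  · subst hl1
    have h1 : u = 1 := by
      have := hu.orderOf; rw [hX, orderOf_eq_one_iff] at this; exact this
    have h2 : v = 1 := by
      have := hv.orderOf; rw [hY, orderOf_eq_one_iff] at this; exact this
    exact ⟨1, 1, map_one _, map_one _, by rw [e, h1, h2]; group⟩
  have hl2 : 2 ≤ l := by have := hl.pos; omega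
  have hc : IsConj u v⁻¹ := by
    rw [isConj_iff_cycleType_eq, cycleType_inv, hu.cycleType (by omega), hv.cycleType (by omega),
      hX, hY]
  obtain ⟨w, hw⟩ := isConj_iff.1 hc
  have hsu : sign u = 1 := hu.sign (hX ▸ hl)
  -- a transposition commuting with `u`
  obtain ⟨p, q, hp, hq, hpq⟩ : ∃ p q, p ∉ X ∧ q ∉ X ∧ p ≠ q := by
    have : 1 < (Xᶜ).card := by rw [Finset.card_compl, hX]; omega
    obtain ⟨p, hp, q, hq, hpq⟩ := Finset.one_lt_card.1 this
    exact ⟨p, q, Finset.mem_compl.1 hp, Finset.mem_compl.1 hq, hpq⟩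
  have hcomm : swap p q * u = u * swap p q := by
    have := Equiv.mul_swap_eq_swap_mul u p q
    rw [hu.apply_notMem hp, hu.apply_notMem hq] at this
    exact this.symm
  obtain ⟨z, hz, hzs⟩ : ∃ z, z * u * z⁻¹ = v⁻¹ ∧ sign z = 1 := by
    rcases Int.units_eq_one_or (sign w) with h1 | h1
    · exact ⟨w, hw, h1⟩
    · refine ⟨w * swap p q, ?_, ?_⟩
      · rw [← hw]
        have : w * swap p q * u * (w * swap p q)⁻¹ = w * (swap p q * u) * (w * swap p q)⁻¹ := by
          group
        rw [this, hcomm]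
        group
      · rw [map_mul, h1, sign_swap hpq]; rfl
  refine ⟨u, z, hsu, hzs, ?_⟩
  have hv' : v = z * u⁻¹ * z⁻¹ := by
    have : v⁻¹⁻¹ = (z * u * z⁻¹)⁻¹ := by rw [hz]
    rw [inv_inv] at this
    rw [this]; group
  rw [e, hv']; group

theorem ce_42 : ∃ t : Perm (Fin 6), CE t ∧ t.cycleType = {2, 4} := by
  refine ⟨([0, 1, 2, 3] : List (Fin 6)).formPerm * ([4, 5] : List (Fin 6)).formPerm,
    ⟨([1, 2, 4, 3, 5] : List (Fin 6)).formPerm,
      ([0, 1] : List (Fin 6)).formPerm * ([2, 3] : List (Fin 6)).formPerm, by decide, by decide,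
      by decide⟩, by decide⟩

theorem ce_33 : ∃ t : Perm (Fin 6), CE t ∧ t.cycleType = {3, 3} := by
  refine ⟨([0, 1, 2] : List (Fin 6)).formPerm * ([3, 4, 5] : List (Fin 6)).formPerm,
    ⟨([1, 2] : List (Fin 6)).formPerm * ([4, 5] : List (Fin 6)).formPerm,
      ([0, 1] : List (Fin 6)).formPerm * ([3, 4] : List (Fin 6)).formPerm, by decide, by decide,
      by decide⟩, by decide⟩

set_option maxRecDepth 4000 in
theorem ce_2222 : ∃ t : Perm (Fin 8), CE t ∧ t.cycleType = {2, 2, 2, 2} := by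
  refine ⟨([0, 1] : List (Fin 8)).formPerm * ([2, 3] : List (Fin 8)).formPerm *
      ([4, 5] : List (Fin 8)).formPerm * ([6, 7] : List (Fin 8)).formPerm,
    ⟨([0, 1, 2] : List (Fin 8)).formPerm * ([4, 5, 6] : List (Fin 8)).formPerm,
      ([0, 3] : List (Fin 8)).formPerm * ([1, 2] : List (Fin 8)).formPerm *
      (([4, 7] : List (Fin 8)).formPerm * ([5, 6] : List (Fin 8)).formPerm), by decide, by decide,
      by decide⟩, by decide⟩

/-- Every even permutation of at least five points is a commutator of even permutations. -/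
theorem ce_all {n : ℕ} (hn : 5 ≤ n) (g : Perm (Fin n)) (hg : sign g = 1) : CE g := by
  by_cases hg1 : g = 1
  · exact ⟨1, 1, map_one _, map_one _, by rw [hg1]; group⟩
  obtain ⟨r, hr, hr1, h⟩ := bertram_exact g hg hg1
  have hc := card_cycleType_le g
  have hs : g.support.card ≤ n := by
    have := Finset.card_le_univ g.support
    rwa [Fintype.card_fin] at this
  -- the generic case: an odd number in `[r, n - 2]`
  by_cases ho : ∃ l, r ≤ l ∧ l + 2 ≤ n ∧ l % 2 = 1
  · obtain ⟨l, h1, h2, h3⟩ := ho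
    have hl : l ≤ Fintype.card (Fin n) := by rw [Fintype.card_fin]; omega
    exact CE.of_two (h.mono h1 hl) (Nat.odd_iff.2 h3) (by rw [Fintype.card_fin]; omega)
  push Not at ho
  have key : r + 2 = n ∧ (n = 6 ∨ n = 8) := by
    have h1 := ho r le_rfl
    have h2 := ho (r + 1) (by omega)
    omega
  obtain ⟨hr2, h68⟩ := key
  have h2le : ∀ m ∈ g.cycleType, 2 ≤ m := fun m hm => two_le_of_mem_cycleType hm
  rcases h68 with rfl | rfl
  · have hc2 : Multiset.card g.cycleType = 2 := by omega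
    have hsum : g.cycleType.sum = 6 := by rw [sum_cycleType]; omega
    obtain ⟨a, b, hab⟩ := Multiset.card_eq_two.1 hc2
    rw [hab] at hsum h2le
    have ha := h2le a (by simp)
    have hb := h2le b (by simp)
    simp only [Multiset.insert_eq_cons, Multiset.sum_cons, Multiset.sum_singleton] at hsum
    obtain ⟨t, ht, ht'⟩ := ce_42
    obtain ⟨u, hu, hu'⟩ := ce_33
    have : (a = 2 ∧ b = 4) ∨ (a = 3 ∧ b = 3) ∨ (a = 4 ∧ b = 2) := by omega
    rcases this with ⟨rfl, rfl⟩ | ⟨rfl, rfl⟩ | ⟨rfl, rfl⟩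
    · exact ht.of_cycleType (by rw [ht', hab])
    · exact hu.of_cycleType (by rw [hu', hab])
    · exact ht.of_cycleType (by rw [ht', hab, Multiset.pair_comm])
  · have hc4 : Multiset.card g.cycleType = 4 := by omega
    have hsum : g.cycleType.sum = 8 := by rw [sum_cycleType]; omega
    obtain ⟨t, ht, ht'⟩ := ce_2222
    refine ht.of_cycleType ?_
    rw [ht']
    have hall : ∀ m ∈ g.cycleType, m = 2 := by
      intro m hm
      obtain ⟨s, hs'⟩ := Multiset.exists_cons_of_mem hm
      have h3 : ∀ x ∈ s, 2 ≤ x := fun x hx => h2le x (by rw [hs']; simp [hx])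
      have h4 := Multiset.card_nsmul_le_sum h3
      rw [hs', Multiset.sum_cons] at hsum
      rw [hs', Multiset.card_cons] at hc4
      have h5 := h2le m hm
      simp only [smul_eq_mul] at h4
      omega
    rw [Multiset.eq_replicate.2 ⟨hc4, hall⟩]
    rfl

/-- **Ore (1951)**: the row of S2443 for the alternating groups. -/
theorem ore_alt {n : ℕ} (hn : 5 ≤ n) : H777.Ore.AllC (alternatingGroup (Fin n)) := by
  intro g
  obtain ⟨a, b, ha, hb, e⟩ := ce_all hn (g : Perm (Fin n)) (mem_alternatingGroup.1 g.2)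
  exact ⟨⟨a, mem_alternatingGroup.2 ha⟩, ⟨b, mem_alternatingGroup.2 hb⟩, Subtype.ext e⟩

end Cfsg.Agent.H134.Ore
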